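import Cfsg.Agent.H376.Cyc.Def
import Cfsg.Agent.H326.CS.Spor

/-!
# S3441: the facts `LF` for the sporadic groups and the Tits group

`LF.of_sc` : an isolated self-centralizing prime `p ≥ 5`.
-/

set_option autoImplicit false

namespace Cfsg.Agent.H963.Cyc

open Subgroup Cfsg Cfsg.Agent.H376.Cyc Cfsg.Agent.H537.Cop

universe w

/-- all elements of order `p` have centralizers of order `p` -/
theorem lf_of_sc {L : Type*} [Group L] [Finite L] {p : ℕ} (hp : p.Prime) (h5 : 5 ≤ p) (hpL : p ∣ Nat.card L)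
    (h2 : 2 ∣ Nat.card L) (h : SC p L) : LF L := by
  refine LF.of_isolated (π := fun r => r = p) hp h5 hpL rfl h2 (by omega) ?_
  rintro r s hr hs rfl hsp ⟨x, hx⟩
  have h1 : orderOf (x ^ s) = r := by
    rw [orderOf_pow, hx, Nat.gcd_mul_left_left, Nat.mul_div_cancel _ hs.pos]
  have h3 := orderOf_dvd_natCard (⟨x, mem_centralizer_singleton_iff.2 (by
    rw [← pow_succ, ← pow_succ'])⟩ : centralizer ({x ^ s} : Set L))
  rw [Subgroup.orderOf_mk, h _ h1, hx] at h3
  have h4 := Nat.le_of_dvd hr.pos h3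
  have h6 := Nat.mul_le_mul_left r hs.two_le
  have := hr.pos
  omega

theorem lf_congr {L M : Type*} [Group L] [Group M] [Finite L] [Finite M] (e : L ≃* M) (h : LF L) : LF M := by
  have key : ∀ n : ℕ, (∃ x : M, orderOf x = n) → ∃ x : L, orderOf x = n := by
    rintro n ⟨x, hx⟩
    exact ⟨e.symm x, by rw [MulEquiv.orderOf_eq]; exact hx⟩
  obtain ⟨⟨p, h1, h2, h3, h4⟩, h5⟩ := h
  rw [Nat.card_congr e.toEquiv] at h3
  refine ⟨⟨p, h1, h2, h3, fun h => h4 (key _ h)⟩, fun r hr hr2 hrM => ?_⟩
  rw [← Nat.card_congr e.toEquiv] at hrM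
  obtain ⟨t, h6, h7, h8, h9⟩ := h5 r hr hr2 hrM
  rw [Nat.card_congr e.toEquiv] at h8
  exact ⟨t, h6, h7, h8, fun h => h9 (key _ h)⟩

/-- **The Tits group.** -/
theorem lf_tits {T : Type w} [Group T] [Finite T] (h : Lie.IsoTits T) : LF T :=
  lf_of_sc (p := 13) (by norm_num) (by norm_num) (by rw [NotCT.Orders.tits h]; norm_num)
    (by rw [NotCT.Orders.tits h]; norm_num) (tits_13 h)

/-- **The sporadic groups** (`hk0` : the classification, needed for `Ly`, `B`, `M` only). -/
theorem lf_spor (hk0 : Cfsg.Agent.H995.CopEngine.AllKnown.{0}) {T : Type w} [Group T] [Finite T]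
    (h : IsSporadicGroup T) : LF T := by
  rcases h with h | h | h | h | h | h | h | h | h | h | h | h | h | h | h | h | h | h | h | h | h | h | h | h | h | h
  · exact lf_of_sc (p := 11) (by norm_num) (by norm_num) (by rw [NotCT.Orders.m11 h]; norm_num)
      (by rw [NotCT.Orders.m11 h]; norm_num) (m11_11 h)
  · exact lf_of_sc (p := 11) (by norm_num) (by norm_num) (by rw [NotCT.Orders.m12 h]; norm_num)
      (by rw [NotCT.Orders.m12 h]; norm_num) (m12_11 h)
  · exact lf_of_sc (p := 11) (by norm_num) (by norm_num) (by rw [NotCT.Orders.m22 h]; norm_num)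
      (by rw [NotCT.Orders.m22 h]; norm_num) (m22_11 h)
  · exact lf_of_sc (p := 23) (by norm_num) (by norm_num) (by rw [NotCT.Orders.m23 h]; norm_num)
      (by rw [NotCT.Orders.m23 h]; norm_num) (m23_23 h)
  · exact lf_of_sc (p := 23) (by norm_num) (by norm_num) (by rw [NotCT.Orders.m24 h]; norm_num)
      (by rw [NotCT.Orders.m24 h]; norm_num) (m24_23 h)
  · exact lf_of_sc (p := 19) (by norm_num) (by norm_num) (by rw [NotCT.Orders.j1 h]; norm_num)
      (by rw [NotCT.Orders.j1 h]; norm_num) (j1_19 h)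
  · exact lf_of_sc (p := 7) (by norm_num) (by norm_num) (by rw [NotCT.Orders.j2 h]; norm_num)
      (by rw [NotCT.Orders.j2 h]; norm_num) (H326.CS.j2_7 h)
  · exact lf_of_sc (p := 19) (by norm_num) (by norm_num) (by rw [NotCT.Orders.j3 h]; norm_num)
      (by rw [NotCT.Orders.j3 h]; norm_num) (j3_19 h)
  · exact lf_of_sc (p := 43) (by norm_num) (by norm_num) (by rw [NotCT.Orders.j4 h]; norm_num)
      (by rw [NotCT.Orders.j4 h]; norm_num) (j4_43 h)
  · have hsc : SC 23 T := by
      obtain ⟨e⟩ := h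
      have hf := BpSpor.MBigCo.finite_co1
      have hc := BpSpor.MBigCo.card_co1
      exact SC.congr e (SC.of_one (x := H604.Cop.Conway.s23) (by norm_num) (by rw [hc]; norm_num)
        H604.Cop.Conway.orderOf_s23 ((H604.Cop.Conway.card_eq H604.Cop.Conway.orderOf_s23
          H604.Cop.Conway.card_cent_s23).trans H604.Cop.Conway.orderOf_s23))
    exact lf_of_sc (p := 23) (by norm_num) (by norm_num) (by rw [NotCT.Orders.co1 h]; norm_num)
      (by rw [NotCT.Orders.co1 h]; norm_num) hsc
  · have hsc : SC 23 T := by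
      obtain ⟨e⟩ := h
      exact SC.congr e H604.Cop.Conway.self_co2
    exact lf_of_sc (p := 23) (by norm_num) (by norm_num) (by rw [NotCT.Orders.co2 h]; norm_num)
      (by rw [NotCT.Orders.co2 h]; norm_num) hsc
  · have hsc : SC 23 T := by
      obtain ⟨e⟩ := h
      exact SC.congr e H604.Cop.Conway.self_co3
    exact lf_of_sc (p := 23) (by norm_num) (by norm_num) (by rw [NotCT.Orders.co3 h]; norm_num)
      (by rw [NotCT.Orders.co3 h]; norm_num) hsc
  · have hsc : SC 11 T := by
      obtain ⟨e⟩ := h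
      exact SC.congr e Cfsg.Agent.H647.SpF.McL.sc_eleven
    exact lf_of_sc (p := 11) (by norm_num) (by norm_num) (by rw [NotCT.Orders.mcl h]; norm_num)
      (by rw [NotCT.Orders.mcl h]; norm_num) hsc
  · have hsc : SC 11 T := by
      obtain ⟨e⟩ := h
      exact SC.congr e Cfsg.Agent.H647.SpF.HS.sc_eleven
    exact lf_of_sc (p := 11) (by norm_num) (by norm_num) (by rw [NotCT.Orders.hs h]; norm_num)
      (by rw [NotCT.Orders.hs h]; norm_num) hsc
  · have hsc : SC 11 T := by
      obtain ⟨e⟩ := h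
      exact SC.congr e suz_11
    exact lf_of_sc (p := 11) (by norm_num) (by norm_num) (by rw [NotCT.Orders.suz h]; norm_num)
      (by rw [NotCT.Orders.suz h]; norm_num) hsc
  · have hsc : SC 17 T := by
      obtain ⟨e⟩ := h
      exact SC.congr e he_17
    exact lf_of_sc (p := 17) (by norm_num) (by norm_num) (by rw [NotCT.Orders.he h]; norm_num)
      (by rw [NotCT.Orders.he h]; norm_num) hsc
  · exact lf_of_sc (p := 29) (by norm_num) (by norm_num) (by rw [NotCT.Orders.ru h]; norm_num)
      (by rw [NotCT.Orders.ru h]; norm_num) (ru_29 h)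
  · exact lf_of_sc (p := 31) (by norm_num) (by norm_num) (by rw [NotCT.Orders.on h]; norm_num)
      (by rw [NotCT.Orders.on h]; norm_num) (on_31 h)
  · have hsc : SC 67 T := by
      obtain ⟨e⟩ := h
      exact SC.congr e (Cfsg.Agent.H124.Cop.SCLy.sc hk0)
    exact lf_of_sc (p := 67) (by norm_num) (by norm_num) (by rw [NotCT.Orders.ly h]; norm_num)
      (by rw [NotCT.Orders.ly h]; norm_num) hsc
  · exact lf_of_sc (p := 13) (by norm_num) (by norm_num) (by rw [NotCT.Orders.fi22 h]; norm_num)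
      (by rw [NotCT.Orders.fi22 h]; norm_num) (fi22_13 h)
  · exact lf_of_sc (p := 23) (by norm_num) (by norm_num) (by rw [NotCT.Orders.fi23 h]; norm_num)
      (by rw [NotCT.Orders.fi23 h]; norm_num) (fi23_23 h)
  · exact lf_of_sc (p := 29) (by norm_num) (by norm_num) (by rw [NotCT.Orders.fi24 h]; norm_num)
      (by rw [NotCT.Orders.fi24 h]; norm_num) (fi24_29' h)
  · have hsc : SC 19 T := by
      obtain ⟨e⟩ := h
      exact SC.congr e Cfsg.Agent.H94.CopHN.sc_nineteen
    exact lf_of_sc (p := 19) (by norm_num) (by norm_num) (by rw [NotCT.Orders.hn h]; norm_num)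
      (by rw [NotCT.Orders.hn h]; norm_num) hsc
  · have hsc : SC 19 T := by
      obtain ⟨e⟩ := h
      exact SC.congr e Cfsg.Agent.H981.SCTh.sc_th
    exact lf_of_sc (p := 19) (by norm_num) (by norm_num) (by rw [NotCT.Orders.th h]; norm_num)
      (by rw [NotCT.Orders.th h]; norm_num) hsc
  · have hsc : SC 47 T := by
      obtain ⟨e⟩ := h
      exact SC.congr e (Cfsg.Agent.H291.SCBaby.sc hk0)
    exact lf_of_sc (p := 47) (by norm_num) (by norm_num) (by rw [NotCT.Orders.b h]; norm_num)
      (by rw [NotCT.Orders.b h]; norm_num) hsc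
  · have hsc : SC 59 T := by
      obtain ⟨e⟩ := h
      exact SC.congr e (Cfsg.Agent.H58.Cop.M.sc_fiftynine hk0)
    exact lf_of_sc (p := 59) (by norm_num) (by norm_num) (by rw [NotCT.Orders.m h]; norm_num)
      (by rw [NotCT.Orders.m h]; norm_num) hsc

end Cfsg.Agent.H963.Cyc
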