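import Mathlib
import Cfsg.Agent.H384.Cyc.Defs
import Cfsg.Agent.H384.TwoTransRed
import Cfsg.Agent.H549.TwoCyc.Affine
import Cfsg.Agent.H989.Cyc.Main
import Cfsg.Prelude.Def_Classification2

/-!
# S3507 (two cycles): the frame (helper963, TEAM TWOCYC)

`frame` : the rank of a primitive group with an element with exactly two cycles is at most three, if this holds for the
almost simple groups.
-/

set_option autoImplicit false

namespace Cfsg.Agent.H963.Cyc

open MulAction Cfsg Cfsg.Agent.H384.Cyc

universe u v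

/-- the orders of the automorphisms of the non-abelian simple groups -/
def OrdAll : Prop := ∀ (X : Type u) [Group X] [Finite X] [IsSimpleGroup X], ¬ IsMulCommutative X → IsKnownSimple' X →
  Ord X ∨ Nonempty (X ≃* alternatingGroup (Fin 5))

variable {G : Type u} {Ω : Type v} [Group G] [Finite G] [Finite Ω] [MulAction G Ω] [FaithfulSMul G Ω]

omit [FaithfulSMul G Ω] in
theorem nontrivial_of_two {g : G} (hg : Two Ω g) : Nontrivial Ω := by
  by_contra h
  rw [not_nontrivial_iff_subsingleton] at h
  have h1 : Subsingleton (orbitRel.Quotient (Subgroup.zpowers g) Ω) := by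
    refine ⟨fun a b => ?_⟩
    obtain ⟨x, rfl⟩ := Quotient.mk''_surjective a
    obtain ⟨y, rfl⟩ := Quotient.mk''_surjective b
    rw [Subsingleton.elim x y]
  have h2 : Nat.card (orbitRel.Quotient (Subgroup.zpowers g) Ω) ≤ 1 := Finite.card_le_one_iff_subsingleton.2 h1
  rw [hg] at h2
  omega

/-- **The frame.** -/
theorem frame (hS : ∀ (X : Type u) [Group X] [Finite X] [IsSimpleGroup X], IsKnownSimple' X) (hOrd : OrdAll.{u})
    (hRow : ∀ (T : Subgroup G) (g : G), TC G Ω T g → IsKnownSimple' ↥T → rk G Ω ≤ 3)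
    (hprim : IsPreprimitive G Ω) (g : G) (hg : Two Ω g) : rk G Ω ≤ 3 := by
  have hnt := nontrivial_of_two (Ω := Ω) hg
  have hG : Nontrivial G := by
    by_contra h
    rw [not_nontrivial_iff_subsingleton] at h
    obtain ⟨a, b, hab⟩ := exists_pair_ne Ω
    obtain ⟨x, hx⟩ := MulAction.exists_smul_eq G a b
    rw [Subsingleton.elim x 1, one_smul] at hx
    exact hab hx
  obtain ⟨N, hN, hN0, hmin⟩ := H384.TwoTrans.exists_min_normal G
  by_cases hab : ∀ x ∈ N, ∀ y ∈ N, Commute x y
  · refine H549.TwoCyc.affine N ⟨⟨fun a b => Subtype.ext ?_⟩⟩ hN0 g hg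
    exact hab a a.2 b b.2
  · rcases H989.Cyc.nonabelian_type hg N hmin hab (fun S hs hna => hOrd S hna (hS S)) with h | ⟨h1, h2, h3⟩
    · exact h
    · exact hRow N g ⟨inferInstance, inferInstance, inferInstance, hprim, hN, h1, h2, h3, hg⟩ (hS N)

end Cfsg.Agent.H963.Cyc
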